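import Cfsg.Agent.Lib.AutPSp.CardAut
import Cfsg.Agent.Lib.SymSix.IndexSix
import Cfsg.Agent.Lib.Linear.Sp4Two
import Cfsg.Prelude.Def_KGroupFacts

/-!
The outer automorphism group of `PSp₄(2^f)`.
-/

set_option autoImplicit false
set_option maxHeartbeats 400000

namespace CfsgLib.OutPSp4

open Matrix Cfsg CfsgLib.AutPSp
open CfsgLib.Linear.Symp

variable {F : Type*} [Field F] [CharP F 2]

theorem graphMat_sq_tv (v : Fin 2 ⊕ Fin 2 → F) (c : F) :
    graphMat (graphMat (tv v c).1) = (tv v c).1.map (fun x => x * x) := by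
  have h2 : (2 : F) = 0 := CharTwo.two_eq_zero
  ext P Q
  rw [Matrix.map_apply, graphMat_apply]
  rcases P with i | i <;> rcases Q with j | j <;> fin_cases i <;> fin_cases j
  all_goals simp [pairIdx, minorTwo, graphMat_apply, tv_apply, sympForm_eq_sum, Pi.single_apply, CharTwo.neg_eq, CharTwo.sub_eq_add, Fin.sum_univ_two]
  all_goals ring_nf
  all_goals simp [h2, show (3 : F) = 1 by linear_combination h2, show (4 : F) = 0 by linear_combination (2 : F) * h2,
    show (6 : F) = 0 by linear_combination (3 : F) * h2, show (8 : F) = 0 by linear_combination (4 : F) * h2,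
    show (10 : F) = 0 by linear_combination (5 : F) * h2]

variable [Fintype F]

theorem graphSp_sq {σ : F ≃+* F} (hσ : ∀ x, σ x = x * x) (s : Spg 2 F) :
    graphSp (graphSp s) = fieldSp σ s := by
  refine DFunLike.congr_fun (MonoidHom.eq_of_eqOn_dense (s := {s | ∃ v c, s.1 = (tv v c).1})
    (f := graphSp.comp graphSp) (g := (fieldSp σ).toMonoidHom) ?_ ?_) s
  · refine top_le_iff.mp ?_
    rw [← transvectionSubgroup_eq_top]
    exact Subgroup.closure_mono fun y ⟨v, c, hy⟩ => ⟨v, c, hy⟩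
  · rintro y ⟨v, c, hy⟩
    obtain rfl : y = tv v c := Subtype.ext hy
    refine Subtype.ext ((graphMat_sq_tv v c).trans ?_)
    rw [MulEquiv.coe_toMonoidHom, fieldSp_coe]
    ext i j
    simp [hσ]

theorem out_high {f : ℕ} (hf : 2 ≤ f) (hF : Fintype.card F = 2 ^ f) :
    IsCyclic (Cfsg.Out (Cfsg.PSp 2 F)) ∧ Nat.card (Cfsg.Out (Cfsg.PSp 2 F)) = 2 * f := by
  classical
  haveI : Fact (Nat.Prime 2) := ⟨Nat.prime_two⟩
  have h4 : 2 ^ 2 ≤ 2 ^ f := Nat.pow_le_pow_right (by norm_num) hf
  have hq : 3 ≤ Fintype.card F := by omega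
  let σ : F ≃+* F := frobeniusEquiv F 2
  have hσ : ∀ x, σ x = x * x := fun x => by
    rw [← sq]; exact frobeniusEquiv_def F 2 x
  set γ := graphAut hq with hγdef
  have hγ2 : γ * γ = fieldAut σ := by
    ext x
    induction x using QuotientGroup.induction_on with
    | _ s => rw [MulAut.mul_apply, graphAut_mk, graphAut_mk, fieldAut_mk, graphSp_sq hσ]
  have hinn : ∀ β ∈ Cfsg.Inn (Cfsg.PSp 2 F), ∃ g : ↥(Cfsg.GSp 2 F), β = simAut g := by
    rintro _ ⟨x, rfl⟩
    induction x using QuotientGroup.induction_on with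
    | _ A => exact ⟨spToGSp A, (simAut_spToGSp A).symm⟩
  have hinj : Function.Injective (MulAut.conj : Cfsg.PSp 2 F →* MulAut (Cfsg.PSp 2 F)) := by
    refine (injective_iff_map_eq_one _).2 fun x hx => ?_
    induction x using QuotientGroup.induction_on with
    | _ A =>
      rw [QuotientGroup.eq_one_iff]
      refine Subgroup.mem_center_iff.2 fun B => ?_
      have h1 := DFunLike.congr_fun hx (QuotientGroup.mk B)
      simp only [MulAut.conj_apply, MulAut.one_apply, ← QuotientGroup.mk_inv, ← QuotientGroup.mk_mul,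
        QuotientGroup.eq] at h1
      have h2 := center_eq_one_two h1
      rw [inv_mul_eq_one, mul_inv_eq_iff_eq_mul] at h2
      exact h2.symm
  have hcardI : Nat.card (Cfsg.Inn (Cfsg.PSp 2 F)) = Nat.card (Cfsg.PSp 2 F) :=
    (Nat.card_congr (MonoidHom.ofInjective hinj).toEquiv).symm
  have haut := CfsgLib.AutPSp.card_aut (F := F) 2 f hF (m := 2) le_rfl (fun _ => by omega)
  rw [if_pos ⟨rfl, rfl⟩] at haut
  have hgcd : Nat.gcd 2 (2 ^ f - 1) = 1 := (Nat.Prime.coprime_iff_not_dvd Nat.prime_two).2 fun hd => by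
    have : 2 ∣ 2 ^ f := dvd_pow_self 2 (by omega)
    omega
  have hcard : Nat.card (Cfsg.Out (Cfsg.PSp 2 F)) = 2 * f := by
    have h := (Cfsg.Inn (Cfsg.PSp 2 F)).card_eq_card_quotient_mul_card_subgroup
    rw [hcardI, haut, hgcd, mul_one] at h
    exact (Nat.eq_of_mul_eq_mul_right Nat.card_pos h).symm
  haveI : Finite (Cfsg.Out (Cfsg.PSp 2 F)) := Nat.finite_of_card_ne_zero (by omega)
  refine ⟨isCyclic_of_orderOf_eq_card (QuotientGroup.mk γ) ?_, hcard⟩
  refine le_antisymm (Nat.le_of_dvd (by omega) (orderOf_dvd_natCard _)) ?_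
  rw [hcard]
  set k := orderOf (QuotientGroup.mk γ : Cfsg.Out (Cfsg.PSp 2 F))
  have hk0 : 0 < k := orderOf_pos _
  have hk : γ ^ k ∈ Cfsg.Inn (Cfsg.PSp 2 F) := by
    rw [← QuotientGroup.eq_one_iff, QuotientGroup.mk_pow, pow_orderOf_eq_one]
  obtain ⟨g, hg⟩ := hinn _ hk
  rcases Nat.even_or_odd' k with ⟨j, hj | hj⟩
  · rw [hj, pow_mul, sq, hγ2, ← map_pow] at hg
    obtain ⟨-, hσj⟩ := semilinear_inj (m := 2) (by norm_num) (g := 1) (g' := g) (σ := σ ^ j) (σ' := 1)
      (by rw [map_one, map_one, one_mul, mul_one]; exact hg)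
    have hiter : ∀ (i : ℕ) (x : F), (σ ^ i) x = x ^ 2 ^ i := by
      intro i
      induction i with
      | zero => intro x; simp
      | succ i ih =>
        intro x
        rw [pow_succ']
        show σ ((σ ^ i) x) = _
        rw [ih, hσ, pow_succ, pow_mul, sq]
    have hle : Fintype.card F ≤ 2 ^ j := by
      have hj1 : 1 < 2 ^ j := Nat.one_lt_pow (by omega) (by norm_num)
      let P : Polynomial F := Polynomial.X ^ 2 ^ j - Polynomial.X
      have hp : P ≠ 0 := FiniteField.X_pow_card_sub_X_ne_zero F hj1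
      rw [← FiniteField.X_pow_card_sub_X_natDegree_eq F hj1, ← Finset.card_univ]
      refine Polynomial.card_le_degree_of_subset_roots fun x _ => ?_
      rw [Polynomial.mem_roots hp]
      have := hiter j x
      rw [hσj] at this
      simp [P, ← this]
    rw [hF] at hle
    have := (Nat.pow_le_pow_iff_right (le_refl 2)).mp hle
    omega
  · exfalso
    rw [hj, pow_succ', pow_mul, sq, hγ2, ← map_pow] at hg
    exact graphAut_ne_semilinear hq g ((σ ^ j)⁻¹) (by
      rw [map_inv, ← hg, ← hγdef]; group)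

section six

open Equiv MulAction

theorem index_inn_six : (Cfsg.Inn (Perm (Fin 6))).index = 2 := by
  have h6 : Fintype.card (Fin 6) = 6 := Fintype.card_fin 6
  obtain ⟨ψ, hψ, hall⟩ := CfsgLib.SymSix.exists_outer (Ω := Fin 6) h6
  have hstab : ∀ a b : Fin 6, stabilizer (Perm (Fin 6)) a = stabilizer (Perm (Fin 6)) b → a = b := by
    intro a b h
    by_contra hne
    obtain ⟨c, hc⟩ : ∃ c, c ∉ ({a, b} : Finset (Fin 6)) := by
      by_contra! hc
      have := Finset.card_le_card (fun c _ => hc c : (Finset.univ : Finset (Fin 6)) ⊆ {a, b})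
      have := Finset.card_le_two (a := a) (b := b)
      simp only [Finset.card_univ, h6] at *
      omega
    simp only [Finset.mem_insert, Finset.mem_singleton, not_or] at hc
    have hm : swap b c ∈ stabilizer (Perm (Fin 6)) a :=
      mem_stabilizer_iff.2 (swap_apply_of_ne_of_ne hne (Ne.symm hc.1))
    rw [h, mem_stabilizer_iff, Perm.smul_def, swap_apply_left] at hm
    exact hc.2 hm
  have hinner : ∀ (b : MulAut (Perm (Fin 6))) (a₀ c₀ : Fin 6),
      (stabilizer (Perm (Fin 6)) a₀).map b.toMonoidHom = stabilizer (Perm (Fin 6)) c₀ →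
      b ∈ Cfsg.Inn (Perm (Fin 6)) := by
    intro b a₀ c₀ h0
    have hall' : ∀ a : Fin 6, ∃ c : Fin 6, (stabilizer (Perm (Fin 6)) a).map b.toMonoidHom =
        stabilizer (Perm (Fin 6)) c := by
      intro a
      obtain ⟨g, rfl⟩ := (MulAction.exists_smul_eq (Perm (Fin 6)) a₀ a : ∃ g : Perm (Fin 6), g • a₀ = a)
      refine ⟨b g c₀, ?_⟩
      rw [Perm.smul_def, ← CfsgLib.SymSix.map_conj_stabilizer g a₀,
        ← CfsgLib.SymSix.map_conj_stabilizer (b g) c₀, ← h0, Subgroup.map_map, Subgroup.map_map]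
      congr 1
      ext x
      simp
    choose π hπ using hall'
    have hπb : Function.Bijective π := Finite.injective_iff_bijective.1 fun x y hxy => by
      apply hstab
      apply Subgroup.map_injective (f := b.toMonoidHom) b.injective
      show (stabilizer (Perm (Fin 6)) x).map b.toMonoidHom = (stabilizer (Perm (Fin 6)) y).map b.toMonoidHom
      rw [hπ, hπ, hxy]
    refine ⟨Equiv.ofBijective π hπb, MulEquiv.ext fun g => ?_⟩
    rw [MulAut.conj_apply, mul_inv_eq_iff_eq_mul]
    refine Equiv.ext fun a => ?_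
    show π (g a) = b g (π a)
    apply hstab
    rw [← hπ, ← CfsgLib.SymSix.map_conj_stabilizer g a, ← CfsgLib.SymSix.map_conj_stabilizer (b g) (π a),
      ← hπ a, Subgroup.map_map, Subgroup.map_map]
    congr 1
    ext x
    simp
  have hψn : ψ ∉ Cfsg.Inn (Perm (Fin 6)) := by
    rintro ⟨g, hg⟩
    refine hψ 0 (g⁻¹ 0) ?_
    rw [← CfsgLib.SymSix.map_conj_stabilizer g⁻¹ 0]
    ext x
    rw [Subgroup.mem_comap, Subgroup.mem_map_equiv, ← hg]
    simp [MulAut.conj_symm_apply, MulAut.conj_apply]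
  refine Subgroup.index_eq_two_iff'.2 ⟨ψ, fun b => ?_⟩
  by_cases hb : b ∈ Cfsg.Inn (Perm (Fin 6))
  · exact Or.inr ⟨hb, fun h => hψn ((Subgroup.mul_mem_cancel_right _ hb).mp h)⟩
  · refine Or.inl ⟨?_, hb⟩
    have hidx : ((stabilizer (Perm (Fin 6)) (0 : Fin 6)).map b.toMonoidHom).index = 6 :=
      (Subgroup.index_map_equiv _ b).trans (CfsgLib.SymSix.index_stabilizer h6 0)
    obtain ⟨c, hc | hc⟩ := hall _ hidx
    · exact absurd (hinner b 0 c hc) hb
    · refine hinner (ψ * b) 0 c ?_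
      have : (ψ * b : MulAut (Perm (Fin 6))).toMonoidHom = ψ.toMonoidHom.comp b.toMonoidHom := rfl
      rw [this, ← Subgroup.map_map, hc, Subgroup.map_comap_eq_self_of_surjective ψ.surjective]

end six

theorem out_card_congr {G H : Type*} [Group G] [Group H] (e : G ≃* H) :
    Nat.card (Cfsg.Out G) = Nat.card (Cfsg.Out H) := by
  show (Cfsg.Inn G).index = (Cfsg.Inn H).index
  rw [← Subgroup.index_map_equiv (Cfsg.Inn G) (MulAut.congr e)]
  congr 1
  ext β
  constructor
  · rintro ⟨_, ⟨x, rfl⟩, rfl⟩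
    exact ⟨e x, MulEquiv.ext fun y => by simp [MulAut.congr, MulAut.conj_apply]⟩
  · rintro ⟨x, rfl⟩
    refine ⟨MulAut.conj (e.symm x), ⟨_, rfl⟩, MulEquiv.ext fun y => ?_⟩
    simp [MulAut.congr, MulAut.conj_apply]

omit [CharP F 2] in
theorem out_two (hF : Fintype.card F = 2) :
    IsCyclic (Cfsg.Out (Cfsg.PSp 2 F)) ∧ Nat.card (Cfsg.Out (Cfsg.PSp 2 F)) = 2 := by
  obtain ⟨e⟩ := CfsgLib.Linear.Sp4Two.exists_Sp4_equiv_S6 (F := F) hF
  have hc : Subgroup.center (Spg 2 F) = ⊥ := by
    refine (Subgroup.eq_bot_iff_forall _).2 fun x hx => e.injective ?_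
    rw [map_one]
    refine CfsgLib.SymSix.eq_one_of_forall_commute (by simp) _ fun g => ?_
    have := congrArg e (Subgroup.mem_center_iff.1 hx (e.symm g))
    rwa [map_mul, map_mul, e.apply_symm_apply] at this
  have hcard : Nat.card (Cfsg.Out (Cfsg.PSp 2 F)) = 2 :=
    (out_card_congr (((QuotientGroup.quotientMulEquivOfEq hc).trans QuotientGroup.quotientBot).trans e)).trans
      index_inn_six
  exact ⟨haveI : Fact (Nat.Prime 2) := ⟨Nat.prime_two⟩; isCyclic_of_prime_card hcard, hcard⟩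

end CfsgLib.OutPSp4
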